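import Cfsg.Agent.Lib.Helper28.TCCheck
import Cfsg.Agent.Lib.Helper56.M11D.Pres

set_option autoImplicit false
set_option linter.unusedVariables false

namespace Cfsg.Agent.Lib.Helper56.M11D

open Cfsg.Agent.Lib.Helper28.TC

noncomputable section

def hotA_c0 : ℕ := 0x0
def hotA : ℕ := hotA_c0
def coldA_c0 : ℕ := 0x0
def coldA : ℕ := coldA_c0
def treeT_c0 : ℕ := 0xb19a18907806715614503402311210100000
def treeT : ℕ := treeT_c0
def rowT_c0 : ℕ := 0xba9876543210
def rowT : ℕ := rowT_c0

end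

end Cfsg.Agent.Lib.Helper56.M11D
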