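import Cfsg.Agent.Lib.Helper28.TCCheck
import Cfsg.Agent.Lib.Helper56.M11D.Pres

set_option autoImplicit false
set_option linter.unusedVariables false

namespace Cfsg.Agent.Lib.Helper56.M11D

open Cfsg.Agent.Lib.Helper28.TC

noncomputable section

def hotE0_c0 : ℕ := 0xbddb230f7853a52873431942202
def hotE0 : ℕ := hotE0_c0
def coldE0_c0 : ℕ := 0xa9c0cb00078001a00000000000038000a000000000000080000
def coldE0 : ℕ := coldE0_c0
def tfT0_c0 : ℕ := 0xab7698325401
def tfT0 : ℕ := tfT0_c0

end

end Cfsg.Agent.Lib.Helper56.M11D
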