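import Cfsg.Agent.Lib.Helper28.TCCheck
import Cfsg.Agent.Lib.Helper56.M11D.Pres

set_option autoImplicit false
set_option linter.unusedVariables false

namespace Cfsg.Agent.Lib.Helper56.M11D

open Cfsg.Agent.Lib.Helper28.TC

noncomputable section

def hotE1_c0 : ℕ := 0xad4e6992b6b2d590a7290c48823
def hotE1 : ℕ := hotE1_c0
def coldE1_c0 : ℕ := 0x980022000000000000580012000000000000180002000000000
def coldE1 : ℕ := coldE1_c0
def tfT1_c0 : ℕ := 0x98ba54761032
def tfT1 : ℕ := tfT1_c0

end

end Cfsg.Agent.Lib.Helper56.M11D
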