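import Cfsg.Agent.Lib.Helper56.M11D.DataE0
import Cfsg.Agent.Lib.Helper56.M11D.DataE1
import Cfsg.Agent.Lib.Helper56.M11D.DataA

set_option autoImplicit false
set_option linter.unusedVariables false

namespace Cfsg.Agent.Lib.Helper56.M11D

open Cfsg.Agent.Lib.Helper28.TC

noncomputable section

/-- decode a generator -/
def genOf (c : ℕ) : Gen := Nat.rec (motive := fun _ => Gen) Gen.i (fun c _ => Gen.k) c

def hotE (x : Gen) : ℕ := Gen.rec (motive := fun _ => ℕ) hotE0 hotE1 x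
def coldE (x : Gen) : ℕ := Gen.rec (motive := fun _ => ℕ) coldE0 coldE1 x
def tfT (x : Gen) : ℕ := Gen.rec (motive := fun _ => ℕ) tfT0 tfT1 x

def entH (x : Gen) (u : ℕ) : ℕ := look (hotE x) 9 511 u
def jEc (x : Gen) (u : ℕ) : ℕ := look (coldE x) 18 262143 u
def alH (k : ℕ) : ℕ := look hotA 9 511 k
def jAc (k : ℕ) : ℕ := look coldA 40 1099511627775 k
def treeE (k : ℕ) : ℕ := look treeT 12 4095 k
/-- the final coset table -/
def tf (x : Gen) (i : ℕ) : ℕ := look (tfT x) 4 15 i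
/-- the final coset number of a row -/
def fin (k : ℕ) : ℕ := Nat.shiftRight (treeE k) 8
/-- the designated row of a final coset -/
def rowOf (i : ℕ) : ℕ := look rowT 4 15 i

/-- the cycle words with their reverses and lengths -/
def cycs : List (List Gen × List Gen × ℕ) := [
  ([Gen.i, Gen.i], [Gen.i, Gen.i], 2),
  ([Gen.k, Gen.k], [Gen.k, Gen.k], 2),
  ([Gen.i, Gen.k, Gen.i, Gen.k, Gen.i, Gen.k, Gen.i, Gen.k, Gen.i, Gen.k, Gen.i, Gen.k], [Gen.k, Gen.i, Gen.k, Gen.i, Gen.k, Gen.i, Gen.k, Gen.i, Gen.k, Gen.i, Gen.k, Gen.i], 12)]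

/-- the relator words -/
def relWords : List (List Gen) := [
  [Gen.i, Gen.i],
  [Gen.k, Gen.k],
  [Gen.i, Gen.k, Gen.i, Gen.k, Gen.i, Gen.k, Gen.i, Gen.k, Gen.i, Gen.k, Gen.i, Gen.k]]

/-- the subgroup generator words -/
def subWords : List (List Gen) := [
  ]

/-- the certificate -/
def C : Cert Gen where
  par := fun k => Nat.land (treeE k) 15
  gn := fun k => genOf (Nat.land (Nat.shiftRight (treeE k) 4) 15)
  ent := fun x u => Nat.land (entH x u) 15
  rkE := fun x u => Nat.shiftRight (entH x u) 4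
  jEk := fun x u => Nat.land (jEc x u) 3
  jEa := fun x u => Nat.land (Nat.shiftRight (jEc x u) 2) 15
  jEp := fun x u => Nat.land (Nat.shiftRight (jEc x u) 6) 255
  jEz := fun x u => Nat.shiftRight (jEc x u) 14
  al := fun k => Nat.land (alH k) 15
  rkA := fun k => Nat.shiftRight (alH k) 4
  jAx := fun k => genOf (Nat.land (jAc k) 15)
  jA1k := fun k => Nat.land (Nat.shiftRight (jAc k) 4) 3
  jA1a := fun k => Nat.land (Nat.shiftRight (jAc k) 6) 15
  jA1p := fun k => Nat.land (Nat.shiftRight (jAc k) 10) 255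
  jA1z := fun k => Nat.land (Nat.shiftRight (jAc k) 18) 15
  jA2k := fun k => Nat.land (Nat.shiftRight (jAc k) 22) 3
  jA2a := fun k => Nat.land (Nat.shiftRight (jAc k) 24) 15
  jA2p := fun k => Nat.land (Nat.shiftRight (jAc k) 28) 255
  jA2z := fun k => Nat.land (Nat.shiftRight (jAc k) 36) 15
  cycW := fun ci => (nthD cycs ci ([], [], 0)).1
  cycR := fun ci => (nthD cycs ci ([], [], 0)).2.1
  cycL := fun ci => (nthD cycs ci ([], [], 0)).2.2
  cycA := fun ci => Nat.ble 3 ci
  fuel := 1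

def NN : ℕ := 12
def nn : ℕ := 12
def RR : ℕ := 25

end

end Cfsg.Agent.Lib.Helper56.M11D
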